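import Mathlib
set_option linter.all false

/-!
# Two-generation: generalities (helper136)

* `of_ambient`: a subgroup `S` of a group `X` is 2-generated as soon as `S ≤ ⟨a, b⟩` for two elements of `S`;
* `torus_trick`: if `h` normalises `X` irreducibly (no proper nontrivial `⟨h⟩`-invariant subgroup), `u ∈ X`,
  `h₁ = w h w⁻¹` normalises `X`, commutes with `h`, and `h₁` does not commute with `u`, then `X ≤ ⟨h, u w⟩`
  and `w ∈ ⟨h, u w⟩`.
-/

set_option autoImplicit false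

namespace Cfsg.Agent.H136.TwoGen

/-- from generation inside the ambient group to generation of the subgroup -/
theorem of_ambient {X : Type*} [Group X] (S : Subgroup X)
    (h : ∃ a b : X, a ∈ S ∧ b ∈ S ∧ S ≤ Subgroup.closure {a, b}) :
    ∃ a b : ↥S, Subgroup.closure ({a, b} : Set ↥S) = ⊤ := by
  obtain ⟨a, b, ha, hb, hS⟩ := h
  refine ⟨⟨a, ha⟩, ⟨b, hb⟩, ?_⟩
  apply Subgroup.map_injective S.subtype_injective
  rw [MonoidHom.map_closure]
  have h1 : S.subtype '' {⟨a, ha⟩, ⟨b, hb⟩} = {a, b} := by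
    rw [Set.image_pair]; rfl
  rw [h1, ← MonoidHom.range_eq_map, Subgroup.range_subtype]
  apply le_antisymm _ hS
  rw [Subgroup.closure_le]
  rintro x (rfl | rfl)
  · exact ha
  · exact hb

/-- The torus trick: `M` contains `h` and `u w`, `h` acts irreducibly on the subgroup `X`, `h₁ = w h w⁻¹`
normalises `X`, commutes with `h` and does not commute with `u ∈ X`. -/
theorem torus_trick {G : Type*} [Group G] (M X : Subgroup G) {h w u : G} (hM : h ∈ M) (huw : u * w ∈ M)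
    (hu : u ∈ X)
    (hX1 : ∀ x ∈ X, (w * h * w⁻¹) * x * (w * h * w⁻¹)⁻¹ ∈ X)
    (hX2 : ∀ x ∈ X, (w * h * w⁻¹)⁻¹ * x * (w * h * w⁻¹) ∈ X)
    (hirr : ∀ Y : Subgroup G, Y ≤ X → (∀ y ∈ Y, h * y * h⁻¹ ∈ Y) → Y = ⊥ ∨ Y = X)
    (hnt : ∃ x ∈ X, h * x ≠ x * h)
    (hXn : ∀ x ∈ X, h * x * h⁻¹ ∈ X)
    (hcomm : h * (w * h * w⁻¹) = (w * h * w⁻¹) * h)
    (hne : (w * h * w⁻¹) * u ≠ u * (w * h * w⁻¹)) :
    X ≤ M ∧ w ∈ M := by
  set h₁ := w * h * w⁻¹ with hh₁
  -- the centraliser of `h` in `X` is trivial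
  have hcent : ∀ x ∈ X, h * x = x * h → x = 1 := by
    rcases hirr (X ⊓ Subgroup.centralizer {h}) inf_le_left (by
      intro y hy
      have h1 : h * y = y * h := by
        have := Subgroup.mem_centralizer_iff.1 hy.2 h (Set.mem_singleton h)
        exact this
      rwa [h1, mul_inv_cancel_right]) with h1 | h1
    · intro x hx hxh
      have : x ∈ X ⊓ Subgroup.centralizer {h} := by
        refine ⟨hx, Subgroup.mem_centralizer_iff.2 ?_⟩
        rintro _ rfl
        exact hxh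
      rw [h1] at this
      exact this
    · exfalso
      obtain ⟨x, hx, hne⟩ := hnt
      rw [← h1] at hx
      exact hne (Subgroup.mem_centralizer_iff.1 hx.2 h (Set.mem_singleton h))
  -- the element `y = h₁⁻¹ u h₁ u⁻¹`
  set y := h₁⁻¹ * u * h₁ * u⁻¹ with hy
  have hyX : y ∈ X := X.mul_mem (hX2 u hu) (X.inv_mem hu)
  have hy1 : y ≠ 1 := by
    intro h0
    apply hne
    have h2 : h₁⁻¹ * u * h₁ = u := by
      rw [hy, mul_inv_eq_one] at h0; exact h0
    calc h₁ * u = h₁ * (h₁⁻¹ * u * h₁) := by rw [h2]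
      _ = u * h₁ := by group
  have hm1 : h₁ * y ∈ M := by
    have h3 : h₁ * y = (u * w) * h * (u * w)⁻¹ := by
      rw [hy, hh₁]; group
    rw [h3]
    exact M.mul_mem (M.mul_mem huw hM) (M.inv_mem huw)
  -- the commutator of `h` and `h₁ y`
  set z := h₁ * (h * y * h⁻¹ * y⁻¹) * h₁⁻¹ with hz
  have hzX : z ∈ X := by
    have h5 := hX1 _ (X.mul_mem (hXn y hyX) (X.inv_mem hyX))
    rwa [hz]
  have hz1 : z ≠ 1 := by
    intro h0
    apply hy1
    apply hcent y hyX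
    rw [hz] at h0
    have h4 : h * y * h⁻¹ * y⁻¹ = 1 := by
      calc h * y * h⁻¹ * y⁻¹ = h₁⁻¹ * (h₁ * (h * y * h⁻¹ * y⁻¹) * h₁⁻¹) * h₁ := by group
        _ = 1 := by rw [h0]; group
    rw [mul_inv_eq_one, mul_inv_eq_iff_eq_mul] at h4
    exact h4
  have hzM : z ∈ M := by
    have h5 : z = h * (h₁ * y) * h⁻¹ * (h₁ * y)⁻¹ := by
      rw [hz]
      calc h₁ * (h * y * h⁻¹ * y⁻¹) * h₁⁻¹ = (h₁ * h) * y * h⁻¹ * y⁻¹ * h₁⁻¹ := by group
        _ = (h * h₁) * y * h⁻¹ * y⁻¹ * h₁⁻¹ := by rw [hcomm]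
        _ = _ := by group
    rw [h5]
    exact M.mul_mem (M.mul_mem (M.mul_mem hM hm1) (M.inv_mem hM)) (M.inv_mem hm1)
  have hXM : X ≤ M := by
    rcases hirr (X ⊓ M) inf_le_left (by
      intro x hx
      exact ⟨hXn x hx.1, M.mul_mem (M.mul_mem hM hx.2) (M.inv_mem hM)⟩) with h6 | h6
    · exfalso
      apply hz1
      have : z ∈ X ⊓ M := ⟨hzX, hzM⟩
      rw [h6] at this
      exact this
    · rw [← h6]; exact inf_le_right
  refine ⟨hXM, ?_⟩
  have h7 := M.mul_mem (M.inv_mem (hXM hu)) huw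
  rwa [inv_mul_cancel_left] at h7

end Cfsg.Agent.H136.TwoGen
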