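import Mathlib
set_option linter.all false

/-!
# Field lemmas for two-generation (helper136)

* `eq_bot_or_top`: an additive subgroup of a finite field closed under multiplication by `c ^ 2`, `c` a generator of
  the unit group, is `⊥` or `⊤`;
* `exists_trace`: `K` with `q ^ 3` elements, `φ = (·) ^ q`: every `v` with `φ v = v` is `t + φ t + φ (φ t)`;
* `exists_trace_two`: the same for `q ^ 2` and `t + φ t`.
-/

set_option autoImplicit false

namespace Cfsg.Agent.H136.FieldLem

/-- in a finite field every element is a difference of two squares -/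
theorem exists_sq_sub_sq {K : Type*} [Field K] [Finite K] (x : K) : ∃ a b : K, x = a ^ 2 - b ^ 2 := by
  by_cases h2 : (2 : K) = 0
  · have : CharP K 2 := by
      apply CharTwo.of_one_ne_zero_of_two_eq_zero one_ne_zero h2
    obtain ⟨a, ha⟩ := (frobenius_bijective_of_finite K).2 x
    refine ⟨a, 0, ?_⟩
    rw [← ha]
    simp [frobenius_def]
  · refine ⟨(x + 1) / 2, (x - 1) / 2, ?_⟩
    field_simp
    ring
where
  frobenius_bijective_of_finite (K : Type _) [Field K] [Finite K] [CharP K 2] :
      Function.Bijective (frobenius K 2) := by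
    have hinj := frobenius_inj K 2
    exact ⟨hinj, Finite.injective_iff_surjective.1 hinj⟩

theorem eq_bot_or_top {K : Type*} [Field K] [Finite K] {c : Kˣ} (hc : ∀ x : Kˣ, x ∈ Subgroup.zpowers c)
    (A : AddSubgroup K) (h : ∀ a ∈ A, (c : K) ^ 2 * a ∈ A) : A = ⊥ ∨ A = ⊤ := by
  -- closed under multiplication by squares
  have h1 : ∀ n : ℕ, ∀ a ∈ A, ((c : K) ^ n) ^ 2 * a ∈ A := by
    intro n
    induction n with
    | zero => intro a ha; simpa using ha
    | succ n ih =>
      intro a ha
      have := h _ (ih a ha)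
      have e : (c : K) ^ 2 * (((c : K) ^ n) ^ 2 * a) = ((c : K) ^ (n + 1)) ^ 2 * a := by ring
      rwa [e] at this
  have h2 : ∀ x : K, ∀ a ∈ A, x ^ 2 * a ∈ A := by
    intro x a ha
    by_cases hx : x = 0
    · rw [hx, zero_pow two_ne_zero, zero_mul]; exact A.zero_mem
    · obtain ⟨n, hn⟩ := (mem_powers_iff_mem_zpowers (y := Units.mk0 x hx)).2 (hc _)
      have e : x = (c : K) ^ n := by
        have := congrArg Units.val hn
        rw [Units.val_mk0] at this
        rw [← this]
        exact Units.val_pow_eq_pow_val c n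
      rw [e]
      exact h1 n a ha
  have h3 : ∀ x : K, ∀ a ∈ A, x * a ∈ A := by
    intro x a ha
    obtain ⟨u, v, rfl⟩ := exists_sq_sub_sq x
    rw [sub_mul]
    exact A.sub_mem (h2 u a ha) (h2 v a ha)
  by_cases hA : A = ⊥
  · exact Or.inl hA
  · right
    obtain ⟨a, ha, ha0⟩ := (A.bot_or_exists_ne_zero).resolve_left hA
    rw [eq_top_iff]
    intro y _
    have := h3 (y / a) a ha
    rwa [div_mul_cancel₀ y ha0] at this

theorem trace_ne_zero {K : Type*} [Field K] [Fintype K] {q : ℕ} (hq : 2 ≤ q) (hK : Fintype.card K = q ^ 3) :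
    ∃ t : K, t + t ^ q + t ^ (q ^ 2) ≠ 0 := by
  by_contra hcon
  push Not at hcon
  let p : Polynomial K := Polynomial.X + Polynomial.X ^ q + Polynomial.X ^ (q ^ 2)
  have hq2 : q < q ^ 2 := by nlinarith
  have hq3 : q ^ 2 < q ^ 3 := by
    have : 0 < q ^ 2 := by positivity
    nlinarith
  have hp : p = 0 := by
    apply Polynomial.eq_zero_of_natDegree_lt_card_of_eval_eq_zero (R := K) p (f := (id : K → K))
      Function.injective_id
    · intro t
      simp [p, hcon t]
    · refine lt_of_le_of_lt (b := q ^ 2) ?_ (by rw [hK]; exact hq3)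
      refine (Polynomial.natDegree_add_le _ _).trans (max_le ?_ ?_)
      · refine (Polynomial.natDegree_add_le _ _).trans (max_le ?_ ?_)
        · exact Polynomial.natDegree_X_le.trans (by nlinarith)
        · exact (Polynomial.natDegree_X_pow_le _).trans hq2.le
      · exact Polynomial.natDegree_X_pow_le _
  have h1 : p.coeff 1 = 1 := by
    simp only [p, Polynomial.coeff_add, Polynomial.coeff_X_one, Polynomial.coeff_X_pow]
    rw [if_neg (by omega), if_neg (by nlinarith)]
    simp
  rw [hp, Polynomial.coeff_zero] at h1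
  exact zero_ne_one h1

theorem trace_two_ne_zero {K : Type*} [Field K] [Fintype K] {q : ℕ} (hq : 2 ≤ q) (hK : Fintype.card K = q ^ 2) :
    ∃ t : K, t + t ^ q ≠ 0 := by
  by_contra hcon
  push Not at hcon
  let p : Polynomial K := Polynomial.X + Polynomial.X ^ q
  have hq2 : q < q ^ 2 := by nlinarith
  have hp : p = 0 := by
    apply Polynomial.eq_zero_of_natDegree_lt_card_of_eval_eq_zero (R := K) p (f := (id : K → K))
      Function.injective_id
    · intro t
      simp [p, hcon t]
    · refine lt_of_le_of_lt (b := q) ?_ (by rw [hK]; exact hq2)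
      refine (Polynomial.natDegree_add_le _ _).trans (max_le ?_ ?_)
      · exact Polynomial.natDegree_X_le.trans (by omega)
      · exact Polynomial.natDegree_X_pow_le _
  have h1 : p.coeff 1 = 1 := by
    simp only [p, Polynomial.coeff_add, Polynomial.coeff_X_one, Polynomial.coeff_X_pow]
    rw [if_neg (by omega)]
    simp
  rw [hp, Polynomial.coeff_zero] at h1
  exact zero_ne_one h1

theorem exists_trace {K : Type*} [Field K] [Fintype K] {q : ℕ} (hq : 2 ≤ q) (hK : Fintype.card K = q ^ 3)
    (φ : K →+* K) (hφ : ∀ x, φ x = x ^ q) {v : K} (hv : φ v = v) : ∃ t : K, t + φ t + φ (φ t) = v := by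
  obtain ⟨t, ht⟩ := trace_ne_zero hq hK
  have e : ∀ t : K, t + t ^ q + t ^ (q ^ 2) = t + φ t + φ (φ t) := by
    intro t
    rw [hφ (φ t), hφ t, ← pow_mul, ← sq]
  rw [e] at ht
  have h3 : φ (φ (φ t)) = t := by
    rw [hφ, hφ, hφ, ← pow_mul, ← pow_mul]
    have : q * (q * q) = q ^ 3 := by ring
    rw [this, ← hK]
    exact FiniteField.pow_card t
  set T := t + φ t + φ (φ t) with hT
  have hTf : φ T = T := by
    rw [hT, map_add, map_add, h3]; ring
  have hvT : φ (v / T) = v / T := by rw [map_div₀, hv, hTf]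
  refine ⟨v / T * t, ?_⟩
  rw [map_mul, hvT, map_mul, hvT, ← mul_add, ← mul_add, ← hT, div_mul_cancel₀ v ht]

theorem exists_trace_two {K : Type*} [Field K] [Fintype K] {q : ℕ} (hq : 2 ≤ q) (hK : Fintype.card K = q ^ 2)
    (φ : K →+* K) (hφ : ∀ x, φ x = x ^ q) {v : K} (hv : φ v = v) : ∃ t : K, t + φ t = v := by
  obtain ⟨t, ht⟩ := trace_two_ne_zero hq hK
  have h3 : φ (φ t) = t := by
    rw [hφ, hφ, ← pow_mul, ← sq, ← hK]
    exact FiniteField.pow_card t
  rw [← hφ] at ht
  set T := t + φ t with hT
  have hTf : φ T = T := by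
    rw [hT, map_add, h3]; ring
  have hvT : φ (v / T) = v / T := by rw [map_div₀, hv, hTf]
  refine ⟨v / T * t, ?_⟩
  rw [map_mul, hvT, ← mul_add, ← hT, div_mul_cancel₀ v ht]

end Cfsg.Agent.H136.FieldLem
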