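import Cfsg.Agent.KFacts.TwF4.Torus
import Cfsg.Agent.H136.FieldLem
set_option linter.all false

/-!
# The large Ree groups are 2-generated (helper136)

`mem_of` : in a group with coordinates `Sys σ G`, a subgroup which contains a suitable torus element `h` and
`e 1 1 0 * rot` contains all root groups.
-/

set_option autoImplicit false
set_option linter.unusedSectionVars false

namespace Cfsg.Agent.H136.TwFour

open Cfsg.Agent.KFacts.TwF4

section abstract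

variable {F : Type*} [Field F] [CharP F 2] [Finite F] {σ : F →+* F} {G : Type*} [Group G] (S : Sys σ G)

theorem e_zero (a : ZMod 8) : S.e a 0 0 = 1 := by
  have h := S.e_mul a 0 0 0 0
  simp only [add_zero, map_zero, mul_zero] at h
  exact mul_left_cancel (h.trans (mul_one _).symm)

theorem e_inv (a : ZMod 8) (p u : F) : (S.e a p u)⁻¹ = S.e a p (u + p * σ p) := by
  rw [inv_eq_iff_mul_eq_one, S.e_mul, CharTwo.add_self_eq_zero]
  have : u + (u + p * σ p) + p * σ p = 0 := by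
    have h1 := CharTwo.add_self_eq_zero u
    have h2 := CharTwo.add_self_eq_zero (p * σ p)
    linear_combination h1 + h2
  rw [this, e_zero]

theorem norm_inj (hσ : ∀ x, σ (σ x) = x ^ 2) : Function.Injective (fun p : F => p * σ p) := by
  intro p q h
  change p * σ p = q * σ q at h
  by_cases hq : q = 0
  · subst hq
    rw [zero_mul] at h
    rcases mul_eq_zero.1 h with h | h
    · exact h
    · exact (map_eq_zero σ).1 h
  by_cases hp : p = 0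
  · subst hp
    rw [zero_mul] at h
    rcases mul_eq_zero.1 h.symm with h | h
    · exact h.symm
    · exact ((map_eq_zero σ).1 h).symm
  have hσp : σ p ≠ 0 := (map_ne_zero σ).2 hp
  have hσq : σ q ≠ 0 := (map_ne_zero σ).2 hq
  have h2 := congrArg σ h
  rw [map_mul, map_mul, hσ, hσ] at h2
  -- `σ p p² = σ q q²`, `p σ p = q σ q`
  have h3 : (p * σ p) * p = (p * σ p) * q := by
    calc (p * σ p) * p = σ p * p ^ 2 := by ring
      _ = σ q * q ^ 2 := h2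
      _ = (q * σ q) * q := by ring
      _ = (p * σ p) * q := by rw [h]
  exact mul_left_cancel₀ (mul_ne_zero hp hσp) h3

theorem norm_surj (hσ : ∀ x, σ (σ x) = x ^ 2) : Function.Surjective (fun p : F => p * σ p) :=
  Finite.injective_iff_surjective.1 (norm_inj hσ)

/-- the set of first coordinates -/
def proj (a : ZMod 8) (M : Subgroup G) : AddSubgroup F where
  carrier := {p | ∃ u, S.e a p u ∈ M}
  zero_mem' := ⟨0, by rw [e_zero]; exact one_mem _⟩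
  add_mem' := by
    rintro p q ⟨u, hu⟩ ⟨v, hv⟩
    exact ⟨_, by rw [← S.e_mul]; exact mul_mem hu hv⟩
  neg_mem' := by
    rintro p ⟨u, hu⟩
    refine ⟨u, ?_⟩
    rw [CharTwo.neg_eq]; exact hu

theorem all_e (hσ : ∀ x, σ (σ x) = x ^ 2) {a : ZMod 8} {M : Subgroup G} {h : G} {d : Fˣ}
    (he : ∀ p u, h * S.e a p u * h⁻¹ = S.e a ((d : F) * p) ((d : F) * σ (d : F) * u))
    (hd : ∀ x : Fˣ, x ∈ Subgroup.zpowers d) (hM : h ∈ M) {p u : F} (hp : p ≠ 0) (hpu : S.e a p u ∈ M) :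
    ∀ q v, S.e a q v ∈ M := by
  have h1 : proj S a M = ⊤ := by
    have hcl : ∀ x ∈ proj S a M, (d : F) * x ∈ proj S a M := by
      rintro x ⟨v, hv⟩
      refine ⟨(d : F) * σ (d : F) * v, ?_⟩
      rw [← he x v]
      exact M.mul_mem (M.mul_mem hM hv) (M.inv_mem hM)
    rcases FieldLem.eq_bot_or_top hd (proj S a M) (by
      intro x hx
      have := hcl _ (hcl x hx)
      rwa [← mul_assoc, ← sq] at this) with h | h
    · exfalso
      apply hp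
      have : p ∈ proj S a M := ⟨u, hpu⟩
      rw [h] at this
      exact this
    · exact h
  have h2 : ∀ p, ∃ u, S.e a p u ∈ M := by
    intro p
    have : p ∈ proj S a M := by rw [h1]; trivial
    exact this
  have h3 : ∀ v, S.e a 0 v ∈ M := by
    intro v
    obtain ⟨p, hp⟩ := norm_surj hσ v
    change p * σ p = v at hp
    obtain ⟨u, hu⟩ := h2 p
    have h4 := mul_mem hu hu
    rw [S.e_mul, CharTwo.add_self_eq_zero, CharTwo.add_self_eq_zero, zero_add, hp] at h4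
    exact h4
  intro q v
  obtain ⟨u, hu⟩ := h2 q
  have h4 := mul_mem hu (h3 (v - u))
  rwa [S.e_mul, add_zero, map_zero, mul_zero, add_zero, add_sub_cancel] at h4

theorem mem_of (hσ : ∀ x, σ (σ x) = x ^ 2) {h : G} {c d : Fˣ}
    (he : ∀ a p u, h * S.e a p u * h⁻¹ = S.e a ((chE σ a c d : F) * p) ((chE σ a c d : F) * σ (chE σ a c d : F) * u))
    (hc : c ≠ 1) (hd1 : d ≠ 1) (hd : ∀ x : Fˣ, x ∈ Subgroup.zpowers d)
    (hcomm : h * (S.rot * h * S.rot⁻¹) = (S.rot * h * S.rot⁻¹) * h)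
    {M : Subgroup G} (hM : h ∈ M) (huw : S.e 1 1 0 * S.rot ∈ M) :
    (∀ a p u, S.e a p u ∈ M) ∧ ∀ a t, S.o a t ∈ M := by
  set w := S.rot with hw
  set h₁ := w * h * w⁻¹ with hh₁
  set u := S.e 1 1 0 with hu
  have h1e : ∀ p v, h₁ * S.e 1 p v * h₁⁻¹ = S.e 1 ((c : F) * p) ((c : F) * σ (c : F) * v) := by
    intro p v
    have e0 : S.e 1 p v = w * S.e 0 p v * w⁻¹ := by rw [S.rot_e, zero_add]
    have e1 : h₁ * S.e 1 p v * h₁⁻¹ = w * (h * S.e 0 p v * h⁻¹) * w⁻¹ := by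
      rw [e0, hh₁]; group
    rw [e1, he, S.rot_e, chE_zero, zero_add]
  have h2e : ∀ p v, h₁⁻¹ * S.e 1 p v * h₁ = S.e 1 ((c : F)⁻¹ * p) ((c : F)⁻¹ * σ (c : F)⁻¹ * v) := by
    intro p v
    have hc0 : (c : F) ≠ 0 := c.ne_zero
    have hσc : σ (c : F) ≠ 0 := (map_ne_zero σ).2 hc0
    have e1 := h1e ((c : F)⁻¹ * p) ((c : F)⁻¹ * σ (c : F)⁻¹ * v)
    have e2 : (c : F) * ((c : F)⁻¹ * p) = p := by rw [mul_inv_cancel_left₀ hc0]
    have e3 : (c : F) * σ (c : F) * ((c : F)⁻¹ * σ (c : F)⁻¹ * v) = v := by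
      rw [map_inv₀]; field_simp
    rw [e2, e3] at e1
    rw [← e1]; group
  have he1 : ∀ p v, h * S.e 1 p v * h⁻¹ = S.e 1 ((d : F) * p) ((d : F) * σ (d : F) * v) := by
    intro p v
    rw [he, chE_one]
  -- `y = h₁⁻¹ u h₁ u⁻¹`
  set y := h₁⁻¹ * u * h₁ * u⁻¹ with hy
  obtain ⟨v1, hv1⟩ : ∃ v1, y = S.e 1 ((c : F)⁻¹ + 1) v1 := by
    rw [hy, hu, h2e, e_inv, S.e_mul, mul_one]
    exact ⟨_, rfl⟩
  have hm1 : h₁ * y ∈ M := by
    have h3 : h₁ * y = (u * w) * h * (u * w)⁻¹ := by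
      rw [hy, hh₁]; group
    rw [h3]
    exact M.mul_mem (M.mul_mem huw hM) (M.inv_mem huw)
  obtain ⟨v2, hv2⟩ : ∃ v2, h * y * h⁻¹ * y⁻¹ = S.e 1 (((d : F) + 1) * ((c : F)⁻¹ + 1)) v2 := by
    rw [hv1, he1, e_inv, S.e_mul]
    have e3 : (d : F) * ((c : F)⁻¹ + 1) + ((c : F)⁻¹ + 1) = ((d : F) + 1) * ((c : F)⁻¹ + 1) := by ring
    rw [e3]
    exact ⟨_, rfl⟩
  obtain ⟨v3, hv3⟩ : ∃ v3, h₁ * (h * y * h⁻¹ * y⁻¹) * h₁⁻¹ =
      S.e 1 ((c : F) * (((d : F) + 1) * ((c : F)⁻¹ + 1))) v3 := by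
    rw [hv2, h1e]
    exact ⟨_, rfl⟩
  have hzM : h₁ * (h * y * h⁻¹ * y⁻¹) * h₁⁻¹ ∈ M := by
    have h5 : h₁ * (h * y * h⁻¹ * y⁻¹) * h₁⁻¹ = h * (h₁ * y) * h⁻¹ * (h₁ * y)⁻¹ := by
      calc h₁ * (h * y * h⁻¹ * y⁻¹) * h₁⁻¹ = (h₁ * h) * y * h⁻¹ * y⁻¹ * h₁⁻¹ := by group
        _ = (h * h₁) * y * h⁻¹ * y⁻¹ * h₁⁻¹ := by rw [hcomm]
        _ = _ := by group
    rw [h5]
    exact M.mul_mem (M.mul_mem (M.mul_mem hM hm1) (M.inv_mem hM)) (M.inv_mem hm1)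
  rw [hv3] at hzM
  have hadd : ∀ x : F, x + 1 = 0 → x = 1 := by
    intro x hx
    have h1 := CharTwo.add_self_eq_zero (1 : F)
    linear_combination hx - h1
  have hne : (c : F) * (((d : F) + 1) * ((c : F)⁻¹ + 1)) ≠ 0 := by
    refine mul_ne_zero c.ne_zero (mul_ne_zero ?_ ?_)
    · intro h0
      exact hd1 (Units.ext (hadd _ h0))
    · intro h0
      have := hadd _ h0
      exact hc (Units.ext (inv_eq_one.1 this))
  have hX : ∀ p v, S.e 1 p v ∈ M := all_e S hσ he1 hd hM hne hzM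
  have hwM : w ∈ M := by
    have h7 := M.mul_mem (M.inv_mem (hX 1 0)) huw
    rwa [hu, inv_mul_cancel_left] at h7
  have hE : ∀ a p v, S.e a p v ∈ M := by
    intro a
    refine Sys.ind8 (P := fun a => ∀ p v, S.e a p v ∈ M) 1 hX ?_ a
    intro a ih p v
    rw [← S.rot_e]
    exact M.mul_mem (M.mul_mem hwM (ih p v)) (M.inv_mem hwM)
  refine ⟨hE, ?_⟩
  intro a t
  have h8 := S.e_e1 a t 0 1 0
  rw [mul_one] at h8
  have h9 : S.o a t = (S.e (a + 1) 1 0 * S.e a t 0)⁻¹ * (S.e a t 0 * S.e (a + 1) 1 0) := by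
    rw [h8]; group
  rw [h9]
  exact M.mul_mem (M.inv_mem (M.mul_mem (hE _ _ _) (hE _ _ _))) (M.mul_mem (hE _ _ _) (hE _ _ _))

end abstract

end Cfsg.Agent.H136.TwFour

namespace Cfsg.Agent.H136.TwFour

open Cfsg.Lie Cfsg.Agent.ChevalleyStructure.TwF4.Rel Cfsg.Agent.ChevalleyStructure.TwF4.Fix
open Cfsg.Agent.ChevalleyStructure.TwF4.Groups Cfsg.Agent.ChevalleyStructure.TwF4.RankOne
open Cfsg.Agent.ChevalleyStructure.TwF4.Twisted Cfsg.Agent.ChevalleyStructure.TwF4.TwistedFix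
open Cfsg.Agent.Octagon.Pkg Cfsg.Agent.Octagon.KRel Cfsg.Agent.Octagon.KSys Cfsg.Agent.Octagon.KPar
open Cfsg.Agent.Octagon.KRoot (maps_rot)
open Cfsg.Agent.ChevalleyStructure.TwF4.Torus Cfsg.Agent.ChevalleyStructure.TwF4.TwGen
open Cfsg.Agent.TitsThree.RankTwoZ Cfsg.Agent.SplitTwo
open Cfsg.Agent.KFacts.TwF4 Cfsg.Agent.KFacts.TwF4.Inst

/-- the index `2 a + 1` -/
def od (a : ZMod 8) : ZMod (2 * 8) := ((2 * a.val + 1 : ℕ) : ZMod (2 * 8))

/-- the index `2 a` -/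
def ev (a : ZMod 8) : ZMod (2 * 8) := ((2 * a.val : ℕ) : ZMod (2 * 8))

theorem od_add_one : ∀ a : ZMod 8, od (a + 1) = 2 + od a := by decide
theorem ev_add_one : ∀ a : ZMod 8, ev (a + 1) = 2 + ev a := by decide
theorem od_or_ev : ∀ k : ZMod (2 * 8), (∃ a, k = od a) ∨ ∃ a, k = ev a := by decide

variable {K : Type*} [Field K] [CharP K 2] [Finite K] {φ : K →+* K} {e : ℕ}

theorem memOdd (hφ : Rln φ e) (a : ZMod 8) : ∀ g : ↥(twistedF4 K e), g ∈ XX K e (od a) ↔ ∃ t, ro hφ a t = g := by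
  refine Sys.ind8 (P := fun a => ∀ g : ↥(twistedF4 K e), g ∈ XX K e (od a) ↔ ∃ t, ro hφ a t = g) 0
    (fun g => memXX1 hφ g) ?_ a
  intro a ih g
  have h1 := maps_rot hφ (od a) ((m1 K e * m2 hφ)⁻¹ * g * (m1 K e * m2 hφ))
  have e1 : Cfsg.Agent.Octagon.KRoot.rot hφ * ((m1 K e * m2 hφ)⁻¹ * g * (m1 K e * m2 hφ)) *
      (Cfsg.Agent.Octagon.KRoot.rot hφ)⁻¹ = g := by
    show (m1 K e * m2 hφ) * ((m1 K e * m2 hφ)⁻¹ * g * (m1 K e * m2 hφ)) * (m1 K e * m2 hφ)⁻¹ = g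
    group
  rw [e1] at h1
  rw [od_add_one, h1, ih]
  constructor
  · rintro ⟨t, ht⟩
    refine ⟨t, ?_⟩
    rw [← rot_ro, ht]; group
  · rintro ⟨t, rfl⟩
    refine ⟨t, ?_⟩
    rw [← rot_ro]; group

theorem memEven (hφ : Rln φ e) (a : ZMod 8) :
    ∀ g : ↥(twistedF4 K e), g ∈ XX K e (ev a) ↔ ∃ p u, re hφ a p u = g := by
  refine Sys.ind8 (P := fun a => ∀ g : ↥(twistedF4 K e), g ∈ XX K e (ev a) ↔ ∃ p u, re hφ a p u = g) 4
    (fun g => memXX8 hφ g) ?_ a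
  intro a ih g
  have h1 := maps_rot hφ (ev a) ((m1 K e * m2 hφ)⁻¹ * g * (m1 K e * m2 hφ))
  have e1 : Cfsg.Agent.Octagon.KRoot.rot hφ * ((m1 K e * m2 hφ)⁻¹ * g * (m1 K e * m2 hφ)) *
      (Cfsg.Agent.Octagon.KRoot.rot hφ)⁻¹ = g := by
    show (m1 K e * m2 hφ) * ((m1 K e * m2 hφ)⁻¹ * g * (m1 K e * m2 hφ)) * (m1 K e * m2 hφ)⁻¹ = g
    group
  rw [e1] at h1
  rw [ev_add_one, h1, ih]
  constructor
  · rintro ⟨t, u, ht⟩
    refine ⟨t, u, ?_⟩
    rw [← rot_re, ht]; group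
  · rintro ⟨t, u, rfl⟩
    refine ⟨t, u, ?_⟩
    rw [← rot_re]; group

/-- the rotation conjugates the torus element into the diagonal subgroup -/
theorem rot_comm {h : ↥(twistedF4 K e)} (hφ : Rln φ e) (hh : (h : GL chevF4.Idx K) ∈ chevF4.diagonalSubgroup K) :
    h * ((m1 K e * m2 hφ) * h * (m1 K e * m2 hφ)⁻¹) = ((m1 K e * m2 hφ) * h * (m1 K e * m2 hφ)⁻¹) * h := by
  have h1 : (n1 K * n2 K) * (h : GL chevF4.Idx K) * (n1 K * n2 K)⁻¹ ∈ chevF4.diagonalSubgroup K :=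
    Act_conj_H (Act_mul (Act_n1 (K := K)) Act_n2) _ hh
  rw [diagonal_eq_range] at h1 hh
  obtain ⟨s, hs⟩ := h1
  obtain ⟨t, ht⟩ := hh
  apply Subtype.ext
  show (h : GL chevF4.Idx K) * ((n1 K * n2 K) * (h : GL chevF4.Idx K) * (n1 K * n2 K)⁻¹) =
    ((n1 K * n2 K) * (h : GL chevF4.Idx K) * (n1 K * n2 K)⁻¹) * (h : GL chevF4.Idx K)
  rw [← hs, ← ht, ← map_mul, ← map_mul, mul_comm]

end Cfsg.Agent.H136.TwFour

namespace Cfsg.Agent.H136.TwFour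

open Cfsg.Lie Cfsg.Agent.ChevalleyStructure.TwF4.TwistedFix Cfsg.Agent.Octagon.KSys Cfsg.Agent.Octagon.KPar
open Cfsg.Agent.KFacts.TwF4 Cfsg.Agent.KFacts.TwF4.Inst

theorem two_gen {K : Type*} [Field K] [Fintype K] {m : ℕ} (hm : 1 ≤ m) (hK : Fintype.card K = 2 ^ (2 * m + 1)) :
    ∃ a b : ↥(Cfsg.Lie.twistedF4 K (2 ^ m)), Subgroup.closure ({a, b} : Set ↥(Cfsg.Lie.twistedF4 K (2 ^ m))) = ⊤ := by
  classical
  have : CharP K 2 := Cfsg.Agent.ChevalleyStructure.TwF4.Twisted.charP_two hK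
  obtain ⟨φ, hφ⟩ := exists_rln hK
  obtain ⟨d, hd⟩ := IsCyclic.exists_generator (α := Kˣ)
  have hd1 : d ≠ 1 := by
    rintro rfl
    have h1 : Fintype.card Kˣ = 1 := by
      rw [Fintype.card_eq_one_iff]
      refine ⟨1, fun x => ?_⟩
      obtain ⟨n, hn⟩ := hd x
      simpa using hn.symm
    rw [Fintype.card_units, hK] at h1
    have : 2 ^ 3 ≤ 2 ^ (2 * m + 1) := Nat.pow_le_pow_right (by norm_num) (by omega)
    omega
  obtain ⟨h, hh, -, he⟩ := exists_torus hφ d d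
  refine ⟨h, re hφ 1 1 0 * (m1 K (2 ^ m) * m2 hφ), ?_⟩
  have key := mem_of (sys hφ) (sq_phi hφ) (h := h) (c := d) (d := d) he hd1 hd1 hd (rot_comm hφ hh)
    (M := Subgroup.closure {h, re hφ 1 1 0 * (m1 K (2 ^ m) * m2 hφ)})
    (Subgroup.subset_closure (Or.inl rfl)) (Subgroup.subset_closure (Or.inr rfl))
  rw [eq_top_iff, ← Cfsg.Agent.Octagon.KRoot.gen]
  refine iSup_le fun k => ?_
  intro g hg
  rcases od_or_ev k with ⟨a, rfl⟩ | ⟨a, rfl⟩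
  · obtain ⟨t, rfl⟩ := (memOdd hφ a g).1 hg
    exact key.2 a t
  · obtain ⟨p, u, rfl⟩ := (memEven hφ a g).1 hg
    exact key.1 a p u

end Cfsg.Agent.H136.TwFour
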